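import Groth.Agent.Pi1.H389.RHEtale
import Groth.Agent.Pi1.H389.ChartFin

/-!
# Riemann-Hurwitz for two-chart data
-/

set_option autoImplicit false
set_option linter.style.haveILetI false
universe u

open CategoryTheory CategoryTheory.Limits AlgebraicGeometry TopologicalSpace Opposite Polynomial
open Groth.Agent.Pi1.H387.P1Data Groth.Agent.Pi1.H389.EtPts

namespace Groth.Agent.Pi1.H389.DataRH

variable {k : Type u} [Field k] {X : Scheme.{u}} [X.Over (Spec (CommRingCat.of k))] (D : Data k X)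

/-- The open part over the punctured line. -/
noncomputable abbrev opn : X.Opens :=
  X.basicOpen (polyU k X D.W0 D.t (∏ b ∈ D.S, (Polynomial.X - Polynomial.C b)))

/-- `K[T] → Γ(X, V)`, `V` the open part over the punctured line. -/
noncomputable abbrev polyV : k[X] →+* Γ(X, opn D) :=
  ((X.presheaf.map (homOfLE (X.basicOpen_le
      (polyU k X D.W0 D.t (∏ b ∈ D.S, (Polynomial.X - Polynomial.C b))))).op).hom).comp
    (polyU k X D.W0 D.t)

theorem isAffineOpen_opn : IsAffineOpen (opn D) := D.hW0.basicOpen _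

theorem polyV_C (c : k) : polyV D (C c) = strU k X (opn D) c := by
  change (X.presheaf.map _).hom (Polynomial.eval₂RingHom (strU k X D.W0) D.t (C c)) = _
  rw [Polynomial.coe_eval₂RingHom, Polynomial.eval₂_C]
  change (X.presheaf.map _).hom ((X ↘ Spec (CommRingCat.of k)).appLE ⊤ D.W0 le_top _) = _
  exact congr($((X ↘ Spec (CommRingCat.of k)).appLE_map (U := ⊤) (V := D.W0) le_top
    (homOfLE (X.basicOpen_le _)).op) _)

/-- the punctured line -/
abbrev Aln : Type u := Localization.Away (∏ b ∈ D.S, (Polynomial.X - Polynomial.C b) : k[X])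

theorem isUnit_polyV : IsUnit (polyV D (∏ b ∈ D.S, (Polynomial.X - Polynomial.C b))) :=
  X.toRingedSpace.isUnit_res_basicOpen _

/-- `A → Γ(X, V)` -/
noncomputable def alnV : Aln D →+* Γ(X, opn D) :=
  IsLocalization.Away.lift (∏ b ∈ D.S, (Polynomial.X - Polynomial.C b) : k[X]) (isUnit_polyV D)

theorem alnV_comp (q : k[X]) : alnV D (algebraMap k[X] (Aln D) q) = polyV D q :=
  IsLocalization.Away.lift_eq _ (isUnit_polyV D) q

theorem finite_etale_alnV : (alnV D).Finite ∧ (alnV D).Etale := by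
  letI i1 : Algebra k[X] Γ(X, D.W0) := (polyU k X D.W0 D.t).toAlgebra
  letI i2 : Algebra k[X] Γ(X, opn D) := (polyV D).toAlgebra
  letI i3 : Algebra (Aln D) Γ(X, opn D) := (alnV D).toAlgebra
  haveI : IsScalarTower k[X] (Aln D) Γ(X, opn D) := IsScalarTower.of_algebraMap_eq fun q => (alnV_comp D q).symm
  haveI : Module.Finite k[X] Γ(X, D.W0) := D.fin0
  haveI : Algebra.Etale k[X] Γ(X, opn D) := D.etale
  have h1 : IsLocalization.Away (algebraMap k[X] Γ(X, D.W0) (∏ b ∈ D.S, (Polynomial.X - Polynomial.C b)))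
      Γ(X, opn D) := D.hW0.isLocalization_basicOpen _
  haveI : IsScalarTower k[X] Γ(X, D.W0) Γ(X, opn D) := IsScalarTower.of_algebraMap_eq fun q => rfl
  haveI : IsLocalization (Algebra.algebraMapSubmonoid Γ(X, D.W0)
      (Submonoid.powers (∏ b ∈ D.S, (Polynomial.X - Polynomial.C b) : k[X]))) Γ(X, opn D) := by
    rw [Algebra.algebraMapSubmonoid_powers]
    exact h1
  refine ⟨?_, ?_⟩
  · exact Module.Finite.of_isLocalization k[X] Γ(X, D.W0)
      (Submonoid.powers (∏ b ∈ D.S, (Polynomial.X - Polynomial.C b) : k[X])) (Rₚ := Aln D) (Sₚ := Γ(X, opn D))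
  · exact Algebra.Etale.of_restrictScalars k[X] (Aln D) Γ(X, opn D)

/-- evaluation at a point of the punctured line -/
noncomputable def ev (c : k) (hc : c ∉ D.S) : Aln D →+* k :=
  IsLocalization.Away.lift (∏ b ∈ D.S, (Polynomial.X - Polynomial.C b) : k[X])
    (g := Polynomial.evalRingHom c) (by
      rw [map_prod, IsUnit.prod_iff]
      intro b hb
      rw [Polynomial.coe_evalRingHom, Polynomial.eval_sub, Polynomial.eval_X, Polynomial.eval_C]
      exact (sub_ne_zero.mpr (fun h : c = b => hc (by rw [h]; exact hb))).isUnit)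

theorem ev_comp (c : k) (hc : c ∉ D.S) (q : k[X]) : ev D c hc (algebraMap k[X] (Aln D) q) = q.eval c :=
  IsLocalization.Away.lift_eq _ _ q

theorem ev_kA (c : k) (hc : c ∉ D.S) : (ev D c hc).comp (kA k (Aln D)) = RingHom.id k := by
  ext a
  change ev D c hc (algebraMap k[X] (Aln D) (C a)) = a
  rw [ev_comp, Polynomial.eval_C]

/-- The points of the fibre over `c`, in terms of `V` and of `W₀`. -/
theorem card_points (c : k) (hc : c ∉ D.S) :
    Nat.card {φ : Γ(X, opn D) →+* k // φ.comp (alnV D) = ev D c hc} =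
      Nat.card {φ : Γ(X, D.W0) →+* k // φ.comp (polyU k X D.W0 D.t) = Polynomial.evalRingHom c} := by
  have hloc := D.hW0.isLocalization_basicOpen
    (polyU k X D.W0 D.t (∏ b ∈ D.S, (Polynomial.X - Polynomial.C b)))
  let r : Γ(X, D.W0) →+* Γ(X, opn D) := algebraMap _ _
  have hr : ∀ q, r (polyU k X D.W0 D.t q) = polyV D q := fun q => rfl
  have hu : ∀ ψ : {φ : Γ(X, D.W0) →+* k // φ.comp (polyU k X D.W0 D.t) = Polynomial.evalRingHom c},
      IsUnit (ψ.1 (polyU k X D.W0 D.t (∏ b ∈ D.S, (Polynomial.X - Polynomial.C b)))) := by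
    intro ψ
    have h1 := RingHom.congr_fun ψ.2 (∏ b ∈ D.S, (Polynomial.X - Polynomial.C b))
    rw [RingHom.comp_apply] at h1
    rw [h1, map_prod, IsUnit.prod_iff]
    intro b hb
    rw [Polynomial.coe_evalRingHom, Polynomial.eval_sub, Polynomial.eval_X, Polynomial.eval_C]
    exact (sub_ne_zero.mpr (fun h : c = b => hc (by rw [h]; exact hb))).isUnit
  let L : {φ : Γ(X, D.W0) →+* k // φ.comp (polyU k X D.W0 D.t) = Polynomial.evalRingHom c} →
      (Γ(X, opn D) →+* k) := fun ψ => IsLocalization.Away.lift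
        (polyU k X D.W0 D.t (∏ b ∈ D.S, (Polynomial.X - Polynomial.C b))) (g := ψ.1) (hu ψ)
  have hL : ∀ ψ a, L ψ (r a) = ψ.1 a := fun ψ a => IsLocalization.Away.lift_eq _ (hu ψ) a
  refine Nat.card_congr
    { toFun := fun φ => ⟨φ.1.comp r, ?_⟩
      invFun := fun ψ => ⟨L ψ, ?_⟩
      left_inv := fun φ => ?_
      right_inv := fun ψ => ?_ }
  · refine RingHom.ext fun q => ?_
    have h1 := RingHom.congr_fun φ.2 (algebraMap k[X] (Aln D) q)
    rw [RingHom.comp_apply, alnV_comp, ev_comp] at h1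
    exact h1
  · refine IsLocalization.ringHom_ext
      (Submonoid.powers (∏ b ∈ D.S, (Polynomial.X - Polynomial.C b) : k[X])) (RingHom.ext fun q => ?_)
    refine Eq.trans ?_ (ev_comp D c hc q).symm
    refine Eq.trans (congrArg (L ψ) (alnV_comp D q)) ?_
    rw [← hr, hL]
    exact RingHom.congr_fun ψ.2 q
  · refine Subtype.ext (IsLocalization.ringHom_ext
      (Submonoid.powers (polyU k X D.W0 D.t (∏ b ∈ D.S, (Polynomial.X - Polynomial.C b))))
      (RingHom.ext fun q => ?_))
    exact hL _ q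
  · exact Subtype.ext (RingHom.ext fun q => hL ψ q)

theorem nonempty_opn [IsIntegral X] : Nonempty (opn D) := by
  by_contra hcon
  have h1 : opn D = ⊥ := by
    rw [eq_bot_iff]
    intro x hx
    exact hcon ⟨⟨x, hx⟩⟩
  rw [opn, basicOpen_eq_bot_iff] at h1
  have h2 : (∏ b ∈ D.S, (Polynomial.X - Polynomial.C b) : k[X]) = 0 :=
    D.inj0 (h1.trans (map_zero _).symm)
  exact Finset.prod_ne_zero_iff.mpr (fun b _ => Polynomial.X_sub_C_ne_zero b) h2

variable [IsAlgClosed k] [CharZero k]

/-- Riemann-Hurwitz, the number of sheets counted as the number of `A`-points of `Γ(X, V)`. -/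
theorem rh_aln (hX : Curve.IsSmoothProperCurve k X (X ↘ Spec (CommRingCat.of k))) (c : k) (hc : c ∉ D.S) :
    2 * (Curv2.genus k X : ℤ) - 2 = ((D.S.card : ℤ) - 1) *
      (Nat.card {φ : Γ(X, opn D) →+* k // φ.comp (alnV D) = ev D c hc} : ℤ) -
      (Nat.card ↥((opn D : Set X)ᶜ) : ℤ) := by
  have : IsIntegral X := hX.2.2.1
  have hft := finite_etale_alnV D
  letI i3 : Algebra (Aln D) Γ(X, opn D) := (alnV D).toAlgebra
  haveI : Module.Finite (Aln D) Γ(X, opn D) := hft.1
  haveI : Algebra.Etale (Aln D) Γ(X, opn D) := hft.2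
  have hne : Nonempty (opn D) := nonempty_opn D
  haveI : Nontrivial Γ(X, opn D) := inferInstance
  have hV := isAffineOpen_opn D
  have hj : hV.fromSpec ≫ (X ↘ Spec (CommRingCat.of k)) =
      Spec.map (CommRingCat.ofHom ((algebraMap (Aln D) Γ(X, opn D)).comp (kA k (Aln D)))) := by
    have h1 : (algebraMap (Aln D) Γ(X, opn D)).comp (kA k (Aln D)) = strU k X (opn D) := by
      ext a
      exact (alnV_comp D (C a)).trans (polyV_C D a)
    rw [h1, ← cancel_epi hV.isoSpec.hom, IsAffineOpen.isoSpec_hom, ChartFin.toSpecΓ_strU,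
      IsAffineOpen.toSpecΓ_fromSpec_assoc]
  have h2 := RHEtale.rh_ring hX D.S hV.fromSpec hj (ev D c hc) (ev_kA D c hc)
  rw [IsAffineOpen.range_fromSpec] at h2
  exact h2

/-- **Riemann-Hurwitz** for two-chart data: `d` is the number of `k`-points of `W₀` where the coordinate is `c`. -/
theorem rh (hX : Curve.IsSmoothProperCurve k X (X ↘ Spec (CommRingCat.of k))) (c : k) (hc : c ∉ D.S) :
    2 * (Curv2.genus k X : ℤ) - 2 = ((D.S.card : ℤ) - 1) *
      (Nat.card {φ : Γ(X, D.W0) →+* k // φ.comp (polyU k X D.W0 D.t) = Polynomial.evalRingHom c} : ℤ) -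
      (Nat.card ↥((opn D : Set X)ᶜ) : ℤ) := by
  rw [rh_aln D hX c hc, card_points D c hc]

end Groth.Agent.Pi1.H389.DataRH
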