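import Groth.Agent.Pi1.H389.PtsBij
import Mathlib.AlgebraicGeometry.Morphisms.FiniteType

/-!
# Enlarging the set of branch points of two-chart data
-/

set_option autoImplicit false
set_option linter.style.haveILetI false
universe u v

open CategoryTheory CategoryTheory.Limits AlgebraicGeometry TopologicalSpace Opposite Polynomial
open Groth.Agent.Pi1.H387.P1Data Groth.Agent.Pi1.H389.EtPts Groth.Agent.Pi1.H389.DataRH
open Groth.Agent.Pi1.H389.IntCl (res)

namespace Groth.Agent.Pi1.H389.Enlarge

theorem etale_res {X : Scheme.{u}} {W V : X.Opens} (hW : IsAffineOpen W) (h : Γ(X, W)) (hV : V = X.basicOpen h)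
    (hle : V ≤ W) : (res hle).Etale := by
  subst hV
  have h1 := hW.isLocalization_basicOpen h
  have h2 : Algebra.Etale Γ(X, W) Γ(X, X.basicOpen h) := Algebra.Etale.of_isLocalizationAway h
  exact RingHom.etale_algebraMap.mpr h2

variable {k : Type u} [Field k] {X : Scheme.{u}} [X.Over (Spec (CommRingCat.of k))]

/-- The same data with more branch points. -/
noncomputable def withS (D : Data k X) (S₁ : Finset k) (h : D.S ⊆ S₁) : Data k X :=
  { D with
    S := S₁
    etale := by
      have hdvd : (∏ b ∈ D.S, (Polynomial.X - Polynomial.C b) : k[X]) ∣ ∏ b ∈ S₁, (Polynomial.X - Polynomial.C b) :=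
        Finset.prod_dvd_prod_of_subset _ _ _ h
      have hle : X.basicOpen (polyU k X D.W0 D.t (∏ b ∈ S₁, (Polynomial.X - Polynomial.C b))) ≤ opn D := by
        obtain ⟨q, hq⟩ := hdvd
        rw [hq, map_mul, Scheme.basicOpen_mul]
        exact inf_le_left
      have h1 : (res hle).Etale := by
        refine etale_res (isAffineOpen_opn D)
          (res (VObj.opn_le D) (polyU k X D.W0 D.t (∏ b ∈ S₁, (Polynomial.X - Polynomial.C b)))) ?_ hle
        refine Eq.trans ?_ (X.basicOpen_res _ (homOfLE (VObj.opn_le D)).op).symm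
        exact (inf_eq_right.mpr hle).symm
      have h2 := RingHom.Etale.stableUnderComposition _ _ D.etale h1
      have h3 : (X.presheaf.map (homOfLE (X.basicOpen_le
          (polyU k X D.W0 D.t (∏ b ∈ S₁, (Polynomial.X - Polynomial.C b))))).op).hom =
          (res hle).comp (res (VObj.opn_le D)) := by
        rw [← CommRingCat.hom_comp, ← Functor.map_comp]
        rfl
      rw [h3]
      exact h2 }

@[simp] theorem withS_W0 (D : Data k X) (S₁ : Finset k) (h : D.S ⊆ S₁) : (withS D S₁ h).W0 = D.W0 := rfl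
@[simp] theorem withS_Wi (D : Data k X) (S₁ : Finset k) (h : D.S ⊆ S₁) : (withS D S₁ h).Wi = D.Wi := rfl
@[simp] theorem withS_t (D : Data k X) (S₁ : Finset k) (h : D.S ⊆ S₁) : (withS D S₁ h).t = D.t := rfl
@[simp] theorem withS_s (D : Data k X) (S₁ : Finset k) (h : D.S ⊆ S₁) : (withS D S₁ h).s = D.s := rfl
@[simp] theorem withS_S (D : Data k X) (S₁ : Finset k) (h : D.S ⊆ S₁) : (withS D S₁ h).S = S₁ := rfl

/-- A curve has infinitely many points. -/
theorem genericPoint_mem_of_finite_compl [IsIntegral X] [LocallyOfFiniteType (X ↘ Spec (CommRingCat.of k))]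
    (hdim : topologicalKrullDim X = 1) {U : X.Opens} (hU : ((U : Set X)ᶜ).Finite) : genericPoint X ∈ U := by
  by_contra hη
  have h1 : (U : Set X)ᶜ = Set.univ := by
    rw [Set.eq_univ_iff_forall]
    intro x hx
    exact hη ((genericPoint_specializes x).mem_open U.isOpen hx)
  rw [h1] at hU
  have : JacobsonSpace X := LocallyOfFiniteType.jacobsonSpace (X ↘ Spec (CommRingCat.of k))
  have h2 : IsClosed (closedPoints X) := by
    have h3 : closedPoints X = ⋃ x ∈ closedPoints X, {x} := by
      ext x
      simp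
    rw [h3]
    exact (hU.subset (Set.subset_univ _)).isClosed_biUnion fun x hx => hx
  have h3 : closure (closedPoints X) = Set.univ := closure_closedPoints
  rw [h2.closure_eq] at h3
  have h4 : genericPoint X ∈ closedPoints X := by
    rw [h3]
    trivial
  exact (CurvesA.CurveDvr.isClosed_singleton_iff hdim (genericPoint X)).mp h4 rfl

/-- The branch points can be enlarged so that the open part lies in a given dense open subset. -/
theorem exists_enlarge [IsIntegral X] [IsAlgClosed k] [LocallyOfFiniteType (X ↘ Spec (CommRingCat.of k))]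
    (hdim : topologicalKrullDim X = 1) (D : Data k X) (U : X.Opens) (hU : ((U : Set X)ᶜ).Finite) :
    ∃ (S₁ : Finset k) (h : D.S ⊆ S₁), opn (withS D S₁ h) ≤ U := by
  classical
  let c : X → k := fun x => if h : ∃ φ : Γ(X, D.W0) →+* k, φ.comp (strU k X D.W0) = RingHom.id k ∧
    PtsBij.pnt D.hW0 φ = x then h.choose D.t else 0
  refine ⟨D.S ∪ hU.toFinset.image c, Finset.subset_union_left, ?_⟩
  intro x hx
  by_contra hxU
  have hx0 : x ∈ D.W0 := X.basicOpen_le _ hx
  have hxη : x ≠ genericPoint X := fun h =>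
    hxU (h ▸ genericPoint_mem_of_finite_compl (k := k) hdim hU)
  have h1 : ∃ φ : Γ(X, D.W0) →+* k, φ.comp (strU k X D.W0) = RingHom.id k ∧ PtsBij.pnt D.hW0 φ = x :=
    PtsBij.exists_pnt_eq D.hW0 hx0 ((CurvesA.CurveDvr.isClosed_singleton_iff hdim x).mpr hxη)
  have h2 : c x = h1.choose D.t := dif_pos h1
  have h3 : c x ∈ D.S ∪ hU.toFinset.image c :=
    Finset.mem_union_right _ (Finset.mem_image_of_mem c (hU.mem_toFinset.mpr hxU))
  obtain ⟨h4, h5⟩ := h1.choose_spec
  have h6 : PtsBij.pnt D.hW0 h1.choose ∈ opn (withS D (D.S ∪ hU.toFinset.image c) Finset.subset_union_left) := by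
    rw [h5]
    exact hx
  refine (PtsBij.pnt_mem_basicOpen_iff D.hW0 h1.choose _).mp h6 ?_
  refine (PtsBij.apply_prod (withS D (D.S ∪ hU.toFinset.image c) Finset.subset_union_left) h1.choose h4).trans ?_
  exact Finset.prod_eq_zero h3 (by rw [h2]; exact sub_self _)

/-- The form with existence of data. -/
theorem exists_enlarge' [IsAlgClosed k] (hX : Curve.IsSmoothProperCurve k X (X ↘ Spec (CommRingCat.of k)))
    (D : Data k X) (U : X.Opens) (hU : ((U : Set X)ᶜ).Finite) : ∃ D₁ : Data k X, opn D₁ ≤ U := by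
  have : IsProper (X ↘ Spec (CommRingCat.of k)) := hX.1
  have : IsIntegral X := hX.2.2.1
  obtain ⟨S₁, h, h1⟩ := exists_enlarge hX.2.2.2 D U hU
  exact ⟨_, h1⟩

end Groth.Agent.Pi1.H389.Enlarge
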