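import Groth.Agent.Pi1.H389.VObj

/-!
# Rational points of affine opens of a curve as ring homomorphisms; the points outside the finite étale locus
-/

set_option autoImplicit false
set_option linter.style.haveILetI false
universe u v

open CategoryTheory CategoryTheory.Limits AlgebraicGeometry TopologicalSpace Opposite Polynomial
open Groth.Agent.Pi1.H387.P1Data Groth.Agent.Pi1.H389.EtPts Groth.Agent.Pi1.H389.DataRH

namespace Groth.Agent.Pi1.H389.PtsBij

variable {k : Type u} [Field k] {X : Scheme.{u}}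

section Affine

variable {U : X.Opens} (hU : IsAffineOpen U)

/-- The `k`-point of a ring homomorphism `Γ(X, U) → k`. -/
noncomputable def ptOf (φ : Γ(X, U) →+* k) : Spec (CommRingCat.of k) ⟶ X :=
  Spec.map (CommRingCat.ofHom φ) ≫ hU.fromSpec

/-- The point of a ring homomorphism `Γ(X, U) → k`. -/
noncomputable def pnt (φ : Γ(X, U) →+* k) : X := ptOf hU φ (IsLocalRing.closedPoint k)

theorem pnt_eq (φ : Γ(X, U) →+* k) :
    pnt hU φ = hU.fromSpec ⟨RingHom.ker φ, RingHom.ker_isPrime φ⟩ := by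
  rw [pnt, ptOf, Scheme.Hom.comp_apply]
  congr 1
  refine PrimeSpectrum.ext ?_
  change (IsLocalRing.maximalIdeal k).comap φ = _
  rw [IsLocalRing.maximalIdeal_eq_bot]
  rfl

theorem pnt_mem (φ : Γ(X, U) →+* k) : pnt hU φ ∈ U := by
  rw [pnt_eq, ← SetLike.mem_coe, ← hU.range_fromSpec]
  exact ⟨_, rfl⟩

theorem pnt_mem_basicOpen_iff (φ : Γ(X, U) →+* k) (g : Γ(X, U)) : pnt hU φ ∈ X.basicOpen g ↔ φ g ≠ 0 := by
  have h1 := hU.fromSpec_preimage_basicOpen g
  rw [pnt_eq]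
  change (⟨RingHom.ker φ, RingHom.ker_isPrime φ⟩ : PrimeSpectrum Γ(X, U)) ∈ hU.fromSpec ⁻¹ᵁ X.basicOpen g ↔ _
  rw [h1]
  exact Iff.rfl

variable [X.Over (Spec (CommRingCat.of k))]

theorem fromSpec_comp : hU.fromSpec ≫ (X ↘ Spec (CommRingCat.of k)) = Spec.map (CommRingCat.ofHom (strU k X U)) := by
  rw [← cancel_epi hU.isoSpec.hom, IsAffineOpen.isoSpec_hom, ChartFin.toSpecΓ_strU,
    IsAffineOpen.toSpecΓ_fromSpec_assoc]

theorem ptOf_comp {φ : Γ(X, U) →+* k} (h : φ.comp (strU k X U) = RingHom.id k) :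
    ptOf hU φ ≫ (X ↘ Spec (CommRingCat.of k)) = 𝟙 _ := by
  rw [ptOf, Category.assoc, fromSpec_comp, ← Spec.map_comp, ← CommRingCat.ofHom_comp, h]
  exact Spec.map_id _

theorem comp_polyU_iff (a : Γ(X, U)) (c : k) (φ : Γ(X, U) →+* k) :
    φ.comp (polyU k X U a) = Polynomial.evalRingHom c ↔ φ.comp (strU k X U) = RingHom.id k ∧ φ a = c := by
  constructor
  · intro h
    constructor
    · ext b
      have h1 := RingHom.congr_fun h (C b)
      simpa [polyU] using h1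
    · have h1 := RingHom.congr_fun h Polynomial.X
      simpa [polyU] using h1
  · rintro ⟨h1, h2⟩
    refine Polynomial.ringHom_ext (fun b => ?_) ?_
    · have h3 := RingHom.congr_fun h1 b
      simpa [polyU] using h3
    · simpa [polyU] using h2

variable [IsAlgClosed k] [LocallyOfFiniteType (X ↘ Spec (CommRingCat.of k))]

theorem isClosed_pnt {φ : Γ(X, U) →+* k} (h : φ.comp (strU k X U) = RingHom.id k) :
    IsClosed ({pnt hU φ} : Set X) :=
  (pointEquivClosedPoint (X ↘ Spec (CommRingCat.of k)) ⟨ptOf hU φ, ptOf_comp hU h⟩).2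

theorem pnt_injective {φ ψ : Γ(X, U) →+* k} (hφ : φ.comp (strU k X U) = RingHom.id k)
    (hψ : ψ.comp (strU k X U) = RingHom.id k) (h : pnt hU φ = pnt hU ψ) : φ = ψ := by
  have h1 := ext_of_apply_closedPoint_eq (X ↘ Spec (CommRingCat.of k)) (ptOf_comp hU hφ) (ptOf_comp hU hψ) h
  rw [ptOf, ptOf, cancel_mono] at h1
  exact congrArg CommRingCat.Hom.hom (Spec.map_injective h1)

/-- Closed points of an affine open are given by homomorphisms. -/
theorem exists_pnt_eq {x : X} (hx : x ∈ U) (hcl : IsClosed ({x} : Set X)) :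
    ∃ φ : Γ(X, U) →+* k, φ.comp (strU k X U) = RingHom.id k ∧ pnt hU φ = x := by
  let s₀ : Spec (CommRingCat.of k) ⟶ X := pointOfClosedPoint (X ↘ Spec (CommRingCat.of k)) x hcl
  have hrange : Set.range s₀ ⊆ Set.range hU.fromSpec := by
    rintro _ ⟨z, rfl⟩
    rw [pointOfClosedPoint_apply, hU.range_fromSpec]
    exact hx
  obtain ⟨φ, hφ⟩ := Spec.map_surjective (IsOpenImmersion.lift hU.fromSpec s₀ hrange)
  have h1 : ptOf hU φ.hom = s₀ := by
    rw [ptOf]
    change Spec.map φ ≫ _ = _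
    rw [hφ]
    exact IsOpenImmersion.lift_fac _ _ _
  refine ⟨φ.hom, ?_, ?_⟩
  · have h2 : ptOf hU φ.hom ≫ (X ↘ Spec (CommRingCat.of k)) = 𝟙 _ := by
      rw [h1]
      exact pointOfClosedPoint_comp _ _ _
    rw [ptOf, Category.assoc, fromSpec_comp, ← Spec.map_comp, ← Spec.map_id] at h2
    exact congrArg CommRingCat.Hom.hom (Spec.map_injective h2)
  · rw [pnt, h1]
    exact pointOfClosedPoint_apply _ _ _ _

end Affine

section Data

variable [X.Over (Spec (CommRingCat.of k))] (D : Data k X)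

/-- The points over the finite branch points and the points at infinity, as ring homomorphisms. -/
abbrev Bad : Type u :=
  (Σ b : D.S, {φ : Γ(X, D.W0) →+* k // φ.comp (polyU k X D.W0 D.t) = Polynomial.evalRingHom (b : k)}) ⊕
    {φ : Γ(X, D.Wi) →+* k // φ.comp (polyU k X D.Wi D.s) = Polynomial.evalRingHom 0}

/-- The point of `X`. -/
noncomputable def badPt : Bad D → X
  | Sum.inl p => pnt D.hW0 p.2.1
  | Sum.inr φ => pnt D.hWi φ.1

theorem badPt_inl_mem (p : Σ b : D.S, {φ : Γ(X, D.W0) →+* k //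
    φ.comp (polyU k X D.W0 D.t) = Polynomial.evalRingHom (b : k)}) : badPt D (Sum.inl p) ∈ D.W0 :=
  pnt_mem _ _

theorem badPt_inr_notMem (φ : {φ : Γ(X, D.Wi) →+* k // φ.comp (polyU k X D.Wi D.s) = Polynomial.evalRingHom 0}) :
    badPt D (Sum.inr φ) ∉ D.W0 := by
  intro h
  have h1 : badPt D (Sum.inr φ) ∈ X.basicOpen D.s := by
    rw [D.hs]
    exact ⟨h, pnt_mem _ _⟩
  exact (pnt_mem_basicOpen_iff D.hWi φ.1 D.s).mp h1 ((comp_polyU_iff D.s 0 φ.1).mp φ.2).2

theorem apply_prod (φ : Γ(X, D.W0) →+* k) (h : φ.comp (strU k X D.W0) = RingHom.id k) :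
    φ (polyU k X D.W0 D.t (∏ b ∈ D.S, (Polynomial.X - Polynomial.C b))) = ∏ b ∈ D.S, (φ D.t - b) := by
  have h1 : φ.comp (polyU k X D.W0 D.t) = Polynomial.evalRingHom (φ D.t) :=
    (comp_polyU_iff D.t _ φ).mpr ⟨h, rfl⟩
  have h2 := RingHom.congr_fun h1 (∏ b ∈ D.S, (Polynomial.X - Polynomial.C b))
  rw [RingHom.comp_apply] at h2
  rw [h2, map_prod]
  refine Finset.prod_congr rfl fun b _ => ?_
  simp

theorem badPt_notMem (p : Bad D) : badPt D p ∉ opn D := by
  rcases p with ⟨b, φ⟩ | φ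
  · intro h
    refine (pnt_mem_basicOpen_iff D.hW0 φ.1 _).mp h ?_
    have h1 := (comp_polyU_iff D.t _ φ.1).mp φ.2
    rw [apply_prod D φ.1 h1.1]
    exact Finset.prod_eq_zero b.2 (by rw [h1.2, sub_self])
  · exact fun h => badPt_inr_notMem D φ (VObj.opn_le D h)

variable [IsAlgClosed k] [LocallyOfFiniteType (X ↘ Spec (CommRingCat.of k))]

theorem isClosed_badPt (p : Bad D) : IsClosed ({badPt D p} : Set X) := by
  rcases p with ⟨b, φ⟩ | φ
  · exact isClosed_pnt D.hW0 ((comp_polyU_iff D.t _ φ.1).mp φ.2).1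
  · exact isClosed_pnt D.hWi ((comp_polyU_iff D.s _ φ.1).mp φ.2).1

theorem badPt_injective : Function.Injective (badPt D) := by
  rintro (⟨b, φ⟩ | φ) (⟨c, ψ⟩ | ψ) h
  · have h1 := (comp_polyU_iff D.t _ φ.1).mp φ.2
    have h2 := (comp_polyU_iff D.t _ ψ.1).mp ψ.2
    have h3 : φ.1 = ψ.1 := pnt_injective D.hW0 h1.1 h2.1 h
    have h4 : b = c := Subtype.ext (by rw [← h1.2, ← h2.2, h3])
    subst h4
    have h5 : φ = ψ := Subtype.ext h3
    rw [h5]
  · exact absurd (h ▸ badPt_inl_mem D ⟨b, φ⟩) (badPt_inr_notMem D ψ)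
  · exact absurd (h ▸ badPt_inl_mem D ⟨c, ψ⟩) (badPt_inr_notMem D φ)
  · have h1 := (comp_polyU_iff D.s _ φ.1).mp φ.2
    have h2 := (comp_polyU_iff D.s _ ψ.1).mp ψ.2
    have h3 : φ.1 = ψ.1 := pnt_injective D.hWi h1.1 h2.1 h
    rw [Subtype.ext h3]

theorem exists_badPt_eq {x : X} (hcl : IsClosed ({x} : Set X)) (hx : x ∉ opn D) : ∃ p, badPt D p = x := by
  by_cases hx0 : x ∈ D.W0
  · obtain ⟨φ, h1, rfl⟩ := exists_pnt_eq (k := k) D.hW0 hx0 hcl
    rw [opn, pnt_mem_basicOpen_iff, not_not, apply_prod D φ h1, Finset.prod_eq_zero_iff] at hx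
    obtain ⟨b, hb, hb0⟩ := hx
    exact ⟨Sum.inl ⟨⟨b, hb⟩, ⟨φ, (comp_polyU_iff D.t _ φ).mpr ⟨h1, sub_eq_zero.mp hb0⟩⟩⟩, rfl⟩
  · have hxi : x ∈ D.Wi := by
      have h1 : x ∈ D.W0 ⊔ D.Wi := by
        rw [D.cover]
        trivial
      exact h1.resolve_left hx0
    obtain ⟨φ, h1, rfl⟩ := exists_pnt_eq (k := k) D.hWi hxi hcl
    have h2 : pnt D.hWi φ ∉ X.basicOpen D.s := by
      rw [D.hs]
      exact fun h => hx0 h.1
    rw [pnt_mem_basicOpen_iff, not_not] at h2
    exact ⟨Sum.inr ⟨φ, (comp_polyU_iff D.s _ φ).mpr ⟨h1, h2⟩⟩, rfl⟩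

/-- The points of `X` outside the open part over the punctured line. -/
noncomputable def badEquiv [IsIntegral X] (hdim : topologicalKrullDim X = 1) :
    Bad D ≃ ↥((opn D : Set X)ᶜ) :=
  Equiv.ofBijective (fun p => ⟨badPt D p, badPt_notMem D p⟩)
    ⟨fun _ _ h => badPt_injective D (congrArg Subtype.val h), fun x => by
      have h1 : x.1 ≠ genericPoint X := fun h => x.2 (h ▸ VObj.genericPoint_mem_opn D)
      obtain ⟨p, hp⟩ := exists_badPt_eq D ((CurvesA.CurveDvr.isClosed_singleton_iff hdim x.1).mpr h1) x.2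
      exact ⟨p, Subtype.ext hp⟩⟩

@[simp]
theorem badEquiv_apply [IsIntegral X] (hdim : topologicalKrullDim X = 1) (p : Bad D) :
    (badEquiv D hdim p : X) = badPt D p := rfl

end Data

end Groth.Agent.Pi1.H389.PtsBij
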