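import Groth.Agent.S1612
import Groth.Agent.S1860
import Groth.Agent.CycB.SetupLft
import Groth.Agent.VarietyA.CurveFin
import Groth.Agent.Pi1.H389.DtOrd

/-!
# Riemann-Hurwitz, abstract form

`X` a smooth proper connected curve over an algebraically closed field `k` of characteristic zero, `t` a rational
function.  Suppose `V ⊆ X` is a nonempty open subset with finite complement and `S` a finite set of constants such
that at every closed point of `V` some `t - c`, `c ∉ S`, is a uniformizer, and that at every point outside `V`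
either `t` has a pole or `t` takes a value in `S`.  Then
`2 g - 2 = (#S - 1) d - #(X - V)` where `d` is the number of points of `V` where `t` takes a given value `c₀ ∉ S`.
-/

set_option autoImplicit false
set_option linter.style.haveILetI false
universe u

open CategoryTheory CategoryTheory.Limits AlgebraicGeometry TopologicalSpace Opposite
open Groth.Agent.CycB.ModStalk Groth.Agent.CycB.C1Basic Groth.Agent.CycB.DegLocal
open Groth.Agent.CurvesB.OmegaStalkDict Groth.Agent.CurvesB

namespace Groth.Agent.Pi1.H389.RHAbs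

variable {k : Type u} [Field k] {X : Scheme.{u}} [IsIntegral X]

/-- the order of a rational function at a point -/
noncomputable abbrev ord (x : X) (g : X.functionField) : ℤ :=
  CycAlg.ordFrac (X.presheaf.stalk x) X.functionField g

/-- the constants in the function field -/
noncomputable abbrev κ (f : X ⟶ Spec (CommRingCat.of k)) : k →+* X.functionField :=
  stHom f (genericPoint X)

theorem algebraMap_stHom (f : X ⟶ Spec (CommRingCat.of k)) (x : X) (c : k) :
    algebraMap (X.presheaf.stalk x) X.functionField (stHom f x c) = κ f c := by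
  rw [algebraMap_eq (genericPoint_specializes x)]
  exact TopCat.Presheaf.germ_stalkSpecializes_apply X.presheaf (U := ⊤) trivial
    (genericPoint_specializes x) _

section

variable (f : X ⟶ Spec (CommRingCat.of k)) {x : X} [IsDiscreteValuationRing (X.presheaf.stalk x)]

theorem ord_sub_of_pos {g : X.functionField} {c b : k} (hc : 0 < ord x (g - κ f c)) (hcb : c ≠ b) :
    ord x (g - κ f b) = 0 := by
  have h1 : g - κ f b = (g - κ f c) + algebraMap (X.presheaf.stalk x) X.functionField (stHom f x (c - b)) := by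
    rw [algebraMap_stHom, map_sub]; ring
  rw [h1]
  exact DvrOrd.ord_add_unit hc ((IsUnit.mk0 _ (sub_ne_zero.mpr hcb)).map _)

theorem ord_sub_of_neg {g : X.functionField} (hc : ord x g < 0) (b : k) :
    ord x (g - κ f b) = ord x g := by
  have h1 : g - κ f b = g + algebraMap (X.presheaf.stalk x) X.functionField (stHom f x (-b)) := by
    rw [algebraMap_stHom, map_neg]; ring
  rw [h1]
  exact DvrOrd.ord_add_of_neg hc _

omit [IsDiscreteValuationRing (X.presheaf.stalk x)] in
theorem ord_κ (c : k) : ord x (κ f c) = 0 := by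
  by_cases hc : c = 0
  · rw [hc, map_zero]
    exact ordFrac_zero _ _
  · rw [← algebraMap_stHom f x]
    exact ordFrac_algebraMap_of_isUnit _ _ ((IsUnit.mk0 _ hc).map _)

end

theorem dSt_sub_κ (f : X ⟶ Spec (CommRingCat.of k)) [QuasiCompact (pullback.diagonal f)]
    (g : X.functionField) (c : k) :
    dSt f (genericPoint X) (g - κ f c) = dSt f (genericPoint X) g := by
  rw [map_sub, dSt_stHom, sub_zero]

section Main

variable [IsAlgClosed k] [CharZero k] [X.Over (Spec (CommRingCat.of k))]

variable (k) in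
omit [CharZero k] in
/-- The degree of a principal divisor, as a sum over a finite set containing its support. -/
theorem sum_ord_eq_zero [IsProper (X ↘ Spec (CommRingCat.of k))] (hdim : topologicalKrullDim X = 1)
    (g : X.functionField) (hg : g ≠ 0) (F : Finset X) (hF : ∀ x ∈ F, x ≠ genericPoint X)
    (hsupp : ∀ x : X, x ≠ genericPoint X → x ∉ F → ord x g = 0) : ∑ x ∈ F, ord x g = 0 := by
  classical
  rw [← S1860.result k X (X ↘ Spec (CommRingCat.of k)) hdim g hg]
  have h1 : ∀ x : X, (∑ᶠ (_ : IsClosed ({x} : Set X)), ((X ↘ Spec (CommRingCat.of k)).residueDegree x : ℤ) *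
      CycAlg.ordFrac (X.presheaf.stalk x) X.functionField g) = if x ∈ F then ord x g else 0 := by
    intro x
    by_cases hx : x = genericPoint X
    · have h2 : ¬ IsClosed ({x} : Set X) := by
        rw [CurvesA.CurveDvr.isClosed_singleton_iff hdim]; exact not_not.mpr hx
      have : IsEmpty (IsClosed ({x} : Set X)) := ⟨h2⟩
      rw [finsum_of_isEmpty, if_neg (fun h => hF x h hx)]
    · have h2 : IsClosed ({x} : Set X) := (CurvesA.CurveDvr.isClosed_singleton_iff hdim x).mpr hx
      rw [finsum_eq_single _ h2 (fun h h' => absurd rfl h'),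
        CurvesA.ResDegOne.residueDegree_eq_one _ x h2, Nat.cast_one, one_mul]
      by_cases hxF : x ∈ F
      · rw [if_pos hxF]
      · rw [if_neg hxF]; exact hsupp x hx hxF
  rw [finsum_congr h1, finsum_eq_sum_of_support_subset (s := F) _ ?_]
  · exact (Finset.sum_congr rfl fun x hx => (if_pos hx)).symm
  · intro x hx
    by_contra hcon
    exact hx (if_neg (by simpa using hcon))

/-- The degree of the canonical divisor of `dt`, as a sum over a finite set. -/
theorem sum_dt (hX : Curve.IsSmoothProperCurve k X (X ↘ Spec (CommRingCat.of k)))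
    (t : X.functionField) (n : X → ℤ) (F : Finset X) (hF : ∀ x ∈ F, x ≠ genericPoint X)
    (hF' : ∃ x : X, x ≠ genericPoint X)
    (h : ∀ x : X, x ≠ genericPoint X → ∃ c : k, t - κ (X ↘ Spec (CommRingCat.of k)) c ≠ 0 ∧ n x ≠ 0 ∧
      ord x (t - κ (X ↘ Spec (CommRingCat.of k)) c) = n x)
    (hn : ∀ x : X, x ≠ genericPoint X → x ∉ F → n x = 1) :
    2 * (Curv2.genus k X : ℤ) - 2 = ∑ x ∈ F, (n x - 1) := by
  classical
  have : IsProper (X ↘ Spec (CommRingCat.of k)) := hX.1
  have : Smooth (X ↘ Spec (CommRingCat.of k)) := hX.2.1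
  have hdim : topologicalKrullDim X = 1 := hX.2.2.2
  set f := X ↘ Spec (CommRingCat.of k) with hf
  have h0 : Module.finrank k (Coh.HH X (Coh.structureModule X) 0) = 1 :=
    VarietyA.CurveFin.finrank_h0_structure k X
  have h1 := (S1612.result k X hX h0).2
  obtain ⟨δ, hδ⟩ := CycB.SetupLft.exists_deltaCompat f (fun _ => 0)
  obtain ⟨-, hgen, hlt, hcl, -, -⟩ := CycB.DegCurve.points k X hdim δ hδ
  have hs : ∀ x : X, x ≠ genericPoint X →
      cl (Omega.sheaf f) (genericPoint X) (dSt f (genericPoint X) t) ≠ 0 ∧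
      Cyc.secOrdAt (Omega.sheaf f) (genericPoint X) x (genericPoint_specializes x)
      (cl (Omega.sheaf f) (genericPoint X) (dSt f (genericPoint X) t)) = n x - 1 := by
    intro x hx
    obtain ⟨c, hc0, hn0, hc⟩ := h x hx
    have := DtOrd.secOrdAt_dSt f hdim hx (t - κ f c) hc0
      (by rw [show CycAlg.ordFrac (X.presheaf.stalk x) X.functionField (t - κ f c) = n x from hc]
          exact_mod_cast hn0)
    rw [show CycAlg.ordFrac (X.presheaf.stalk x) X.functionField (t - κ f c) = n x from hc,
      dSt_sub_κ f t c] at this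
    exact this
  obtain ⟨x₀, hx₀⟩ := hF'
  rw [← h1, CycB.DegCurve.deg_eq k X hdim δ hδ _ (OmegaInv.isInvertible_omega f hdim) _ (hs x₀ hx₀).1]
  have h2 : ∀ x : X, (f.residueDegree x : ℤ) * Cyc.secDivFun δ (Omega.sheaf f) (genericPoint X)
      (cl (Omega.sheaf f) (genericPoint X) (dSt f (genericPoint X) t)) x =
        if x ∈ F then n x - 1 else 0 := by
    intro x
    by_cases hx : x = genericPoint X
    · rw [if_neg (fun h => hF x h hx)]
      unfold Cyc.secDivFun
      rw [dif_neg, mul_zero]
      rintro ⟨-, h2⟩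
      rw [hx] at h2
      omega
    · unfold Cyc.secDivFun
      rw [dif_pos ⟨genericPoint_specializes x, by rw [hlt x hx, hgen]; rfl⟩, (hs x hx).2,
        CurvesA.ResDegOne.residueDegree_eq_one _ x (hcl x hx), Nat.cast_one, one_mul]
      by_cases hxF : x ∈ F
      · rw [if_pos hxF]
      · rw [if_neg hxF, hn x hx hxF]; rfl
  rw [finsum_congr h2, finsum_eq_sum_of_support_subset (s := F) _ ?_]
  · exact (Finset.sum_congr rfl fun x hx => (if_pos hx))
  · intro x hx
    by_contra hcon
    exact hx (if_neg (by simpa using hcon))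

/-- **Riemann-Hurwitz**, abstract form. -/
theorem rh (hX : Curve.IsSmoothProperCurve k X (X ↘ Spec (CommRingCat.of k)))
    (t : X.functionField) (V : Set X) (hηV : genericPoint X ∈ V) (hfin : Vᶜ.Finite) (S : Finset k)
    (h1 : ∀ x ∈ V, x ≠ genericPoint X → ∃ c ∉ S, ord x (t - κ (X ↘ Spec (CommRingCat.of k)) c) = 1)
    (h2 : ∀ x ∉ V, ord x t < 0 ∨ ∃ b ∈ S, 0 < ord x (t - κ (X ↘ Spec (CommRingCat.of k)) b))
    (c₀ : k) (hc₀ : c₀ ∉ S)
    (hN : {x : X | x ∈ V ∧ x ≠ genericPoint X ∧ 0 < ord x (t - κ (X ↘ Spec (CommRingCat.of k)) c₀)}.Finite) :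
    2 * (Curv2.genus k X : ℤ) - 2 = ((S.card : ℤ) - 1) *
      (Nat.card ↥{x : X | x ∈ V ∧ x ≠ genericPoint X ∧ 0 < ord x (t - κ (X ↘ Spec (CommRingCat.of k)) c₀)} : ℤ) -
      (Nat.card ↥(Vᶜ) : ℤ) := by
  classical
  have : IsProper (X ↘ Spec (CommRingCat.of k)) := hX.1
  have : Smooth (X ↘ Spec (CommRingCat.of k)) := hX.2.1
  have hdim : topologicalKrullDim X = 1 := hX.2.2.2
  set f := X ↘ Spec (CommRingCat.of k) with hf
  have hdvr : ∀ x : X, x ≠ genericPoint X → IsDiscreteValuationRing (X.presheaf.stalk x) :=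
    fun x hx => CurvesA.CurveDvr.isDiscreteValuationRing_stalk f hdim.le x hx
  obtain ⟨x₀, hx₀⟩ := CurvesA.CurveDvr.exists_ne_genericPoint hdim
  -- `t` is not constant
  have ht : ∀ c : k, t - κ f c ≠ 0 := by
    intro c hc
    have ht : t = κ f c := sub_eq_zero.mp hc
    have := hdvr x₀ hx₀
    have hκ : ∀ b : k, ord x₀ (t - κ f b) = 0 := fun b => by
      rw [ht, ← map_sub]; exact ord_κ f _
    by_cases hV : x₀ ∈ V
    · obtain ⟨b, -, hb⟩ := h1 x₀ hV hx₀
      rw [hκ] at hb
      exact absurd hb (by norm_num)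
    · rcases h2 x₀ hV with h | ⟨b, -, hb⟩
      · have := hκ 0
        rw [map_zero, sub_zero] at this
        omega
      · rw [hκ] at hb
        exact lt_irrefl _ hb
  let F : Finset X := hfin.toFinset
  let N : Finset X := hN.toFinset
  have hFη : ∀ x ∈ F, x ≠ genericPoint X := by
    rintro x hx rfl
    exact (hfin.mem_toFinset.mp hx) hηV
  have hFV : ∀ x, x ∉ F ↔ x ∈ V := fun x => by
    rw [hfin.mem_toFinset, Set.mem_compl_iff, not_not]
  let P : Finset X := F.filter fun x => ord x t < 0
  let Q : Finset X := F.filter fun x => ¬ ord x t < 0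
  -- the value of `t` at the points of `Q`
  have hQ : ∀ x ∈ Q, ∃ b ∈ S, 0 < ord x (t - κ f b) := fun x hx => by
    obtain ⟨hxF, hx'⟩ := Finset.mem_filter.mp hx
    exact (h2 x (fun h => (hFV x).mpr h hxF)).resolve_left hx'
  -- divisor of `t - b`
  have hb : ∀ b ∈ S, ∑ x ∈ Q, (if 0 < ord x (t - κ f b) then ord x (t - κ f b) else 0) +
      ∑ x ∈ P, ord x t = 0 := by
    intro b hbS
    refine Eq.trans ?_ (sum_ord_eq_zero k hdim (t - κ f b) (ht b) F hFη ?_)
    · rw [← Finset.sum_filter_add_sum_filter_not F (fun x => ord x t < 0), add_comm]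
      congr 1
      · refine Finset.sum_congr rfl fun x hx => ?_
        obtain ⟨hxF, hx'⟩ := Finset.mem_filter.mp hx
        have := hdvr x (hFη x hxF)
        exact (ord_sub_of_neg f hx' b).symm
      · refine Finset.sum_congr rfl fun x hx => ?_
        obtain ⟨hxF, hx'⟩ := Finset.mem_filter.mp hx
        have := hdvr x (hFη x hxF)
        obtain ⟨b', hb', hpos⟩ := hQ x hx
        by_cases hbb : b' = b
        · subst hbb
          rw [if_pos hpos]
        · rw [ord_sub_of_pos f hpos hbb, if_neg (lt_irrefl _)]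
    · intro x hx hxF
      have := hdvr x hx
      obtain ⟨c, hc, hc1⟩ := h1 x ((hFV x).mp hxF) hx
      exact ord_sub_of_pos f (by rw [hc1]; norm_num) (fun h : c = b => hc (by rw [h]; exact hbS))
  -- divisor of `t - c₀`
  have hc : (N.card : ℤ) + ∑ x ∈ P, ord x t = 0 := by
    have hdisj : Disjoint N F := by
      rw [Finset.disjoint_left]
      intro x hx hxF
      exact (hFV x).mpr (hN.mem_toFinset.mp hx).1 hxF
    refine Eq.trans ?_ (sum_ord_eq_zero k hdim (t - κ f c₀) (ht c₀) (N ∪ F) ?_ ?_)
    · rw [Finset.sum_union hdisj, ← Finset.sum_filter_add_sum_filter_not F (fun x => ord x t < 0)]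
      have e1 : ∑ x ∈ N, ord x (t - κ f c₀) = N.card := by
        rw [Finset.card_eq_sum_ones, Nat.cast_sum]
        refine Finset.sum_congr rfl fun x hx => ?_
        obtain ⟨hxV, hxη, hx0⟩ := hN.mem_toFinset.mp hx
        have := hdvr x hxη
        obtain ⟨c, hc, hc1⟩ := h1 x hxV hxη
        by_cases hcc : c = c₀
        · rw [← hcc, hc1]; rfl
        · rw [ord_sub_of_pos f (by rw [hc1]; norm_num) hcc] at hx0
          exact absurd hx0 (lt_irrefl _)
      have e2 : ∑ x ∈ F with ord x t < 0, ord x (t - κ f c₀) = ∑ x ∈ P, ord x t := by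
        refine Finset.sum_congr rfl fun x hx => ?_
        obtain ⟨hxF, hx'⟩ := Finset.mem_filter.mp hx
        have := hdvr x (hFη x hxF)
        exact ord_sub_of_neg f hx' c₀
      have e3 : ∑ x ∈ F with ¬ ord x t < 0, ord x (t - κ f c₀) = 0 := by
        refine Finset.sum_eq_zero fun x hx => ?_
        obtain ⟨hxF, hx'⟩ := Finset.mem_filter.mp hx
        have := hdvr x (hFη x hxF)
        obtain ⟨b', hb', hpos⟩ := hQ x hx
        exact ord_sub_of_pos f hpos (fun h => hc₀ (h ▸ hb'))
      rw [e1, e2, e3, add_zero]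
    · intro x hx
      rcases Finset.mem_union.mp hx with h | h
      · exact (hN.mem_toFinset.mp h).2.1
      · exact hFη x h
    · intro x hx hx'
      rw [Finset.mem_union, not_or] at hx'
      have := hdvr x hx
      have hxV := (hFV x).mp hx'.2
      obtain ⟨c, hc, hc1⟩ := h1 x hxV hx
      have hcc : c ≠ c₀ := by
        rintro rfl
        exact hx'.1 (hN.mem_toFinset.mpr ⟨hxV, hx, by rw [hc1]; norm_num⟩)
      exact ord_sub_of_pos f (by rw [hc1]; norm_num) hcc
  -- divisor of `dt`
  let n : X → ℤ := fun x => if x ∈ F then (if ord x t < 0 then ord x t else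
    ∑ b ∈ S, (if 0 < ord x (t - κ f b) then ord x (t - κ f b) else 0)) else 1
  have hnQ : ∀ x ∈ Q, ∀ b ∈ S, 0 < ord x (t - κ f b) →
      ∑ b ∈ S, (if 0 < ord x (t - κ f b) then ord x (t - κ f b) else 0) = ord x (t - κ f b) := by
    intro x hx b hbS hpos
    have := hdvr x (hFη x (Finset.mem_filter.mp hx).1)
    rw [Finset.sum_eq_single_of_mem b hbS, if_pos hpos]
    intro b' _ hbb
    rw [ord_sub_of_pos f hpos (Ne.symm hbb), if_neg (lt_irrefl _)]
  have hdt := sum_dt hX t n F hFη ⟨x₀, hx₀⟩ ?_ ?_
  · rw [hdt, Finset.sum_sub_distrib]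
    have e1 : ∑ x ∈ F, n x = ∑ x ∈ P, ord x t + ∑ b ∈ S, ∑ x ∈ Q,
        (if 0 < ord x (t - κ f b) then ord x (t - κ f b) else 0) := by
      rw [Finset.sum_comm, ← Finset.sum_filter_add_sum_filter_not F (fun x => ord x t < 0)]
      congr 1
      · refine Finset.sum_congr rfl fun x hx => ?_
        obtain ⟨hxF, hx'⟩ := Finset.mem_filter.mp hx
        simp only [n]
        rw [if_pos hxF, if_pos hx']
      · refine Finset.sum_congr rfl fun x hx => ?_
        obtain ⟨hxF, hx'⟩ := Finset.mem_filter.mp hx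
        simp only [n]
        rw [if_pos hxF, if_neg hx']
    have e2 : ∑ b ∈ S, ∑ x ∈ Q, (if 0 < ord x (t - κ f b) then ord x (t - κ f b) else 0) =
        (S.card : ℤ) * N.card := by
      rw [Finset.sum_congr rfl (fun b hbS => (show _ = (N.card : ℤ) by have := hb b hbS; omega)),
        Finset.sum_const, nsmul_eq_mul]
    have e3 : (Nat.card ↥(Vᶜ) : ℤ) = F.card := by
      rw [Nat.card_coe_set_eq, Set.ncard_eq_toFinset_card _ hfin]
    have e4 : (Nat.card ↥{x : X | x ∈ V ∧ x ≠ genericPoint X ∧ 0 < ord x (t - κ f c₀)} : ℤ) = N.card := by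
      rw [Nat.card_coe_set_eq, Set.ncard_eq_toFinset_card _ hN]
    rw [e1, e2, e3, e4, Finset.sum_const, nsmul_eq_mul, mul_one]
    linear_combination hc
  · intro x hx
    have := hdvr x hx
    by_cases hxF : x ∈ F
    · by_cases hneg : ord x t < 0
      · refine ⟨0, ht 0, ?_, ?_⟩
        · simp only [n]; rw [if_pos hxF, if_pos hneg]; exact hneg.ne
        · simp only [n]; rw [if_pos hxF, if_pos hneg, map_zero, sub_zero]
      · have hxQ : x ∈ Q := Finset.mem_filter.mpr ⟨hxF, hneg⟩
        obtain ⟨b, hbS, hpos⟩ := hQ x hxQ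
        refine ⟨b, ht b, ?_, ?_⟩
        · simp only [n]; rw [if_pos hxF, if_neg hneg, hnQ x hxQ b hbS hpos]; exact hpos.ne'
        · simp only [n]; rw [if_pos hxF, if_neg hneg, hnQ x hxQ b hbS hpos]
    · obtain ⟨c, -, hc1⟩ := h1 x ((hFV x).mp hxF) hx
      refine ⟨c, ht c, ?_, ?_⟩
      · simp only [n]; rw [if_neg hxF]; norm_num
      · simp only [n]; rw [if_neg hxF]; exact hc1
  · intro x hx hxF
    simp only [n]; rw [if_neg hxF]

end Main

end Groth.Agent.Pi1.H389.RHAbs
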