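import Groth.Agent.Pi1.H389.RHAbs
import Groth.Agent.Pi1.H389.EtVal
import Groth.Agent.Pi1.H389.EtLine
import Groth.Agent.VarietyA.Dim1Top

/-!
# Riemann-Hurwitz for curves finite étale over the punctured line on an open part

`X` a smooth proper curve over an algebraically closed field `k` of characteristic zero, `j : Y ⟶ X` a nonempty
open part, `p : Y ⟶ Spec A` finite étale over `k`, where `A = k[T][1 / ∏_{b ∈ S} (T - b)]`.  Then
`2 g - 2 = (#S - 1) d - #(X - Y)` where `d` is the number of points of `Y` over a rational point of `Spec A`.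
-/

set_option autoImplicit false
set_option linter.style.haveILetI false
universe u

open CategoryTheory CategoryTheory.Limits AlgebraicGeometry TopologicalSpace Opposite Polynomial
open Groth.Agent.CycB.DegLocal hiding algebraMap_eq
open Groth.Agent.CurvesB.OmegaStalkDict Groth.Agent.CurvesB
open Groth.Agent.Pi1.H389.EtPts Groth.Agent.Pi1.H389.RHAbs

namespace Groth.Agent.Pi1.H389.RHEtale

variable {k : Type u} [Field k] [IsAlgClosed k] [CharZero k] {X : Scheme.{u}}
  [X.Over (Spec (CommRingCat.of k))]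

theorem rh_opens [IsIntegral X] (hX : Curve.IsSmoothProperCurve k X (X ↘ Spec (CommRingCat.of k)))
    (S : Finset k) {A : Type u} [CommRing A] [Algebra k[X] A]
    [IsLocalization.Away (∏ b ∈ S, (Polynomial.X - C b) : k[X]) A]
    {V : X.Opens} [Nonempty V] (p : (V : Scheme.{u}) ⟶ Spec (CommRingCat.of A)) [IsFinite p] [Etale p]
    (hp : p ≫ Spec.map (CommRingCat.ofHom (kA k A)) = V.ι ≫ (X ↘ Spec (CommRingCat.of k)))
    (e : A →+* k) (he : e.comp (kA k A) = RingHom.id k) :
    2 * (Curv2.genus k X : ℤ) - 2 = ((S.card : ℤ) - 1) *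
      (Nat.card {s : Spec (CommRingCat.of k) ⟶ V // s ≫ p = Spec.map (CommRingCat.ofHom e)} : ℤ) -
      (Nat.card ↥((V : Set X)ᶜ) : ℤ) := by
  have : IsProper (X ↘ Spec (CommRingCat.of k)) := hX.1
  have : Smooth (X ↘ Spec (CommRingCat.of k)) := hX.2.1
  have hdim : topologicalKrullDim X = 1 := hX.2.2.2
  have : IsLocallyNoetherian X :=
    LocallyOfFiniteType.isLocallyNoetherian (X ↘ Spec (CommRingCat.of k))
  have : CompactSpace X := QuasiCompact.compactSpace_of_compactSpace (X ↘ Spec (CommRingCat.of k))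
  have : IsNoetherian X := {}
  set f := X ↘ Spec (CommRingCat.of k) with hf
  have hVne : (V : Set X).Nonempty := Set.nonempty_coe_sort.mp ‹_›
  have hηV : genericPoint X ∈ V := (genericPoint_spec X).mem_open_set_iff V.isOpen |>.mpr (by simpa using hVne)
  have hfin : ((V : Set X)ᶜ).Finite :=
    VarietyA.Dim1Top.finite_compl hdim.le V (V.isOpen.dense hVne)
  have hdvr : ∀ x : X, x ≠ genericPoint X → IsDiscreteValuationRing (X.presheaf.stalk x) :=
    fun x hx => CurvesA.CurveDvr.isDiscreteValuationRing_stalk f hdim.le x hx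
  have hcl : ∀ x : X, IsClosed ({x} : Set X) ↔ x ≠ genericPoint X := fun x =>
    CurvesA.CurveDvr.isClosed_singleton_iff hdim x
  let t : X.functionField := (ρ p (genericPoint X) hηV).hom (algebraMap k[X] A Polynomial.X)
  -- `T - c` in the function field
  have hρ : ∀ (x : X) (hx : x ∈ V) (c : k), algebraMap (X.presheaf.stalk x) X.functionField
      ((ρ p x hx).hom (algebraMap k[X] A (Polynomial.X - C c))) = t - κ f c := by
    intro x hx c
    have h1 := congr($(ρ_specializes p (genericPoint_specializes x) hx hηV)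
      (algebraMap k[X] A (Polynomial.X - C c)))
    rw [CycB.DegLocal.algebraMap_eq (genericPoint_specializes x)]
    refine Eq.trans h1 ?_
    exact ρ_sub f p hp (genericPoint X) hηV c
  -- `t` is not in `S`
  have htS : ∀ c ∈ S, t - κ f c ≠ 0 := by
    intro c hc
    have h1 : IsUnit ((ρ p (genericPoint X) hηV).hom (algebraMap k[X] A (Polynomial.X - C c))) :=
      (isUnit_sub S A hc).map _
    rw [ρ_sub f p hp] at h1
    exact h1.ne_zero
  have h1 : ∀ x ∈ (V : Set X), x ≠ genericPoint X → ∃ c ∉ S, ord x (t - κ f c) = 1 := by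
    intro x hx hxη
    have := hdvr x hxη
    obtain ⟨c, hcS, hc⟩ := exists_value f S p hp hx (fun a => DtOrd.exists_const f ((hcl x).mpr hxη) a)
    refine ⟨c, hcS, ?_⟩
    rw [← hρ x hx c]
    exact DvrOrd.ord_irreducible ((IsDiscreteValuationRing.irreducible_iff_uniformizer _).mpr hc)
  have h2 : ∀ x ∉ (V : Set X), ord x t < 0 ∨ ∃ b ∈ S, 0 < ord x (t - κ f b) := by
    intro x hx
    have hxη : x ≠ genericPoint X := fun h => hx (h ▸ hηV)
    have := hdvr x hxη
    by_cases hneg : ord x t < 0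
    · exact Or.inl hneg
    right
    obtain ⟨τ, hτ⟩ := DvrOrd.mem_of_ord_nonneg (R := X.presheaf.stalk x) (Or.inr (not_lt.mp hneg))
    obtain ⟨c, hc⟩ := DtOrd.exists_const f ((hcl x).mpr hxη) τ
    by_cases hcS : c ∈ S
    · refine ⟨c, hcS, ?_⟩
      have h3 : t - κ f c = algebraMap (X.presheaf.stalk x) X.functionField (τ - stHom f x c) := by
        rw [map_sub, hτ, algebraMap_stHom]
      have h4 : τ - stHom f x c ≠ 0 := by
        intro h5
        rw [h5, map_zero] at h3
        exact htS c hcS h3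
      rw [h3]
      exact (DvrOrd.ord_pos_iff h4).mpr hc
    · exact absurd (mem_of_value f S p hp hηV x τ hτ c hc hcS) hx
  set c₀ : k := e (algebraMap k[X] A Polynomial.X) with hc₀
  have hc₀S : c₀ ∉ S := (exists_ev S e he).1
  -- `t` is not `c₀`
  obtain ⟨x₀, hx₀⟩ := CurvesA.CurveDvr.exists_ne_genericPoint hdim
  have ht : t - κ f c₀ ≠ 0 := by
    intro hc
    have ht : t = κ f c₀ := sub_eq_zero.mp hc
    have := hdvr x₀ hx₀
    have hκ : ∀ b : k, ord x₀ (t - κ f b) = 0 := fun b => by
      rw [ht, ← map_sub]; exact ord_κ f _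
    by_cases hV : x₀ ∈ V
    · obtain ⟨b, -, hb⟩ := h1 x₀ hV hx₀
      rw [hκ] at hb
      exact absurd hb (by norm_num)
    · rcases h2 x₀ hV with h | ⟨b, -, hb⟩
      · have := hκ 0
        rw [map_zero, sub_zero] at this
        omega
      · rw [hκ] at hb
        exact lt_irrefl _ hb
  have hset : ∀ x : X, (x ∈ (V : Set X) ∧ x ≠ genericPoint X ∧ 0 < ord x (t - κ f c₀)) ↔
      ∃ hx : x ∈ V, IsClosed ({x} : Set X) ∧
        (ρ p x hx).hom (algebraMap k[X] A (Polynomial.X - C c₀)) ∈
        IsLocalRing.maximalIdeal (X.presheaf.stalk x) := by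
    intro x
    have key : ∀ hx : x ∈ V, x ≠ genericPoint X → (0 < ord x (t - κ f c₀) ↔
        (ρ p x hx).hom (algebraMap k[X] A (Polynomial.X - C c₀)) ∈
        IsLocalRing.maximalIdeal (X.presheaf.stalk x)) := by
      intro hx hxη
      have := hdvr x hxη
      rw [← hρ x hx c₀]
      refine DvrOrd.ord_pos_iff ?_
      intro h0
      apply ht
      rw [← hρ x hx c₀, h0, map_zero]
    constructor
    · rintro ⟨hx, hxη, h⟩
      exact ⟨hx, (hcl x).mpr hxη, (key hx hxη).mp h⟩
    · rintro ⟨hx, hxη, h⟩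
      exact ⟨hx, (hcl x).mp hxη, (key hx ((hcl x).mp hxη)).mpr h⟩
  have hN : {x : X | x ∈ (V : Set X) ∧ x ≠ genericPoint X ∧ 0 < ord x (t - κ f c₀)}.Finite := by
    have h3 : (p ⁻¹' {Spec.map (CommRingCat.ofHom e) (IsLocalRing.closedPoint k)}).Finite :=
      p.finite_preimage_singleton _
    refine (h3.image V.ι).subset ?_
    intro x hx
    obtain ⟨hxV, -, h⟩ := (hset x).mp hx
    exact ⟨⟨x, hxV⟩, (apply_eq_iff S p e he x hxV).mpr h, rfl⟩
  rw [rh hX t V hηV hfin S h1 h2 c₀ hc₀S hN, card_points f S p hp e he]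
  have h5 := Nat.card_congr (Equiv.subtypeEquivRight hset)
  exact congrArg (fun n : ℕ => ((S.card : ℤ) - 1) * (n : ℤ) - (Nat.card ↥((V : Set X)ᶜ) : ℤ)) h5

/-- **Riemann-Hurwitz.**  `X` a smooth proper curve over `k` (algebraically closed of characteristic zero),
`j : Y ⟶ X` a nonempty open part, `p : Y ⟶ Spec A` finite étale over `k`, `A = k[T][1 / ∏_{b ∈ S} (T - b)]`, `ξ` a
rational point of `Spec A`. -/
theorem rh (hX : Curve.IsSmoothProperCurve k X (X ↘ Spec (CommRingCat.of k)))
    (S : Finset k) {A : Type u} [CommRing A] [Algebra k[X] A]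
    [IsLocalization.Away (∏ b ∈ S, (Polynomial.X - C b) : k[X]) A]
    {Y : Scheme.{u}} [Nonempty Y] (j : Y ⟶ X) [IsOpenImmersion j]
    (p : Y ⟶ Spec (CommRingCat.of A)) [IsFinite p] [Etale p]
    (hp : p ≫ Spec.map (CommRingCat.ofHom (kA k A)) = j ≫ (X ↘ Spec (CommRingCat.of k)))
    (ξ : Spec (CommRingCat.of k) ⟶ Spec (CommRingCat.of A))
    (hξ : ξ ≫ Spec.map (CommRingCat.ofHom (kA k A)) = 𝟙 _) :
    2 * (Curv2.genus k X : ℤ) - 2 = ((S.card : ℤ) - 1) *
      (Nat.card {s : Spec (CommRingCat.of k) ⟶ Y // s ≫ p = ξ} : ℤ) -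
      (Nat.card ↥((Set.range j)ᶜ) : ℤ) := by
  have : IsIntegral X := hX.2.2.1
  obtain ⟨e, rfl⟩ := Spec.map_surjective ξ
  have he : e.hom.comp (kA k A) = RingHom.id k := by
    rw [← Spec.map_comp, ← Spec.map_id] at hξ
    exact congrArg CommRingCat.Hom.hom (Spec.map_injective hξ)
  have : Nonempty j.opensRange := ⟨j.isoOpensRange.hom (Classical.arbitrary Y)⟩
  have hp' : (j.isoOpensRange.inv ≫ p) ≫ Spec.map (CommRingCat.ofHom (kA k A)) =
      j.opensRange.ι ≫ (X ↘ Spec (CommRingCat.of k)) := by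
    rw [Category.assoc, hp, Scheme.Hom.isoOpensRange_inv_comp_assoc]
  have h1 := rh_opens hX S (j.isoOpensRange.inv ≫ p) hp' e.hom he
  rw [h1]
  have h2 : Nat.card {s : Spec (CommRingCat.of k) ⟶ (j.opensRange : Scheme.{u}) //
      s ≫ (j.isoOpensRange.inv ≫ p) = Spec.map (CommRingCat.ofHom e.hom)} =
      Nat.card {s : Spec (CommRingCat.of k) ⟶ Y // s ≫ p = Spec.map e} :=
    Nat.card_congr
      { toFun := fun s => ⟨s.1 ≫ j.isoOpensRange.inv, by rw [Category.assoc]; exact s.2⟩
        invFun := fun s => ⟨s.1 ≫ j.isoOpensRange.hom, by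
          rw [Category.assoc, Iso.hom_inv_id_assoc]; exact s.2⟩
        left_inv := fun s => Subtype.ext (by simp)
        right_inv := fun s => Subtype.ext (by simp) }
  exact congrArg (fun n : ℕ => ((S.card : ℤ) - 1) * (n : ℤ) - (Nat.card ↥((Set.range j)ᶜ) : ℤ)) h2

/-- Riemann-Hurwitz, ring form: `Y = Spec B`, `B` finite étale over `A`; the number of points is the number of
`A`-algebra maps `B → k` over a point `e : A → k`. -/
theorem rh_ring (hX : Curve.IsSmoothProperCurve k X (X ↘ Spec (CommRingCat.of k)))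
    (S : Finset k) {A B : Type u} [CommRing A] [Algebra k[X] A]
    [IsLocalization.Away (∏ b ∈ S, (Polynomial.X - C b) : k[X]) A] [CommRing B] [Nontrivial B] [Algebra A B]
    [Module.Finite A B] [Algebra.Etale A B]
    (j : Spec (CommRingCat.of B) ⟶ X) [IsOpenImmersion j]
    (hj : j ≫ (X ↘ Spec (CommRingCat.of k)) =
      Spec.map (CommRingCat.ofHom ((algebraMap A B).comp (kA k A))))
    (e : A →+* k) (he : e.comp (kA k A) = RingHom.id k) :
    2 * (Curv2.genus k X : ℤ) - 2 = ((S.card : ℤ) - 1) *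
      (Nat.card {φ : B →+* k // φ.comp (algebraMap A B) = e} : ℤ) -
      (Nat.card ↥((Set.range j)ᶜ) : ℤ) := by
  have h1 : IsFinite (Spec.map (CommRingCat.ofHom (algebraMap A B))) := by
    rw [IsFinite.SpecMap_iff]
    exact RingHom.finite_algebraMap.mpr ‹_›
  have h2 : Etale (Spec.map (CommRingCat.ofHom (algebraMap A B))) := by
    rw [HasRingHomProperty.Spec_iff (P := @Etale)]
    exact (RingHom.etale_algebraMap).mpr ‹_›
  have : Nonempty (Spec (CommRingCat.of B)) := inferInstanceAs (Nonempty (PrimeSpectrum B))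
  have h3 := rh hX S j (Spec.map (CommRingCat.ofHom (algebraMap A B)))
    (by rw [hj, ← Spec.map_comp, ← CommRingCat.ofHom_comp]) (Spec.map (CommRingCat.ofHom e))
    (by rw [← Spec.map_comp, ← CommRingCat.ofHom_comp, he]; exact Spec.map_id _)
  rw [h3]
  have h4 : Nat.card {s : Spec (CommRingCat.of k) ⟶ Spec (CommRingCat.of B) //
      s ≫ Spec.map (CommRingCat.ofHom (algebraMap A B)) = Spec.map (CommRingCat.ofHom e)} =
      Nat.card {φ : B →+* k // φ.comp (algebraMap A B) = e} :=
    Nat.card_congr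
      { toFun := fun s => ⟨(Spec.preimage s.1).hom, by
          have h5 := s.2
          rw [← Spec.map_preimage s.1, ← Spec.map_comp] at h5
          exact congrArg CommRingCat.Hom.hom (Spec.map_injective h5)⟩
        invFun := fun φ => ⟨Spec.map (CommRingCat.ofHom φ.1), by
          rw [← Spec.map_comp, ← CommRingCat.ofHom_comp, φ.2]⟩
        left_inv := fun s => Subtype.ext (Spec.map_preimage s.1)
        right_inv := fun φ => Subtype.ext (by simp) }
  exact congrArg (fun n : ℕ => ((S.card : ℤ) - 1) * (n : ℤ) - (Nat.card ↥((Set.range j)ᶜ) : ℤ)) h4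

end Groth.Agent.Pi1.H389.RHEtale
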