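import Groth.Agent.Pi1.H389.DataRH
import Groth.Agent.Pi1.H389.IntCl
import Groth.Prelude.Def_FEt

/-!
# The finite étale cover of the punctured line defined by two-chart data
-/

set_option autoImplicit false
set_option linter.style.haveILetI false
universe u v

open CategoryTheory CategoryTheory.Limits AlgebraicGeometry TopologicalSpace Opposite Polynomial
open Groth.Agent.Pi1.H387.P1Data Groth.Agent.Pi1.H389.EtPts Groth.Agent.Pi1.H389.DataRH
open Groth.Agent.Pi1.H389.IntCl (res)

namespace Groth.Agent.Pi1.H389.VObj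

variable {k : Type u} [Field k] {X : Scheme.{u}} [X.Over (Spec (CommRingCat.of k))] (D : Data k X)

/-- The morphism from the open part to the punctured line. -/
noncomputable def Vmap : (opn D : Scheme.{u}) ⟶ Spec (CommRingCat.of (Aln D)) :=
  (opn D).toSpecΓ ≫ Spec.map (CommRingCat.ofHom (alnV D))

theorem isoSpec_inv_Vmap : (isAffineOpen_opn D).isoSpec.inv ≫ Vmap D = Spec.map (CommRingCat.ofHom (alnV D)) := by
  rw [Vmap, IsAffineOpen.isoSpec_inv_toSpecΓ_assoc]

instance isFinite_Vmap : IsFinite (Vmap D) := by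
  have h1 : IsFinite (Spec.map (CommRingCat.ofHom (alnV D))) :=
    (IsFinite.SpecMap_iff _).mpr (finite_etale_alnV D).1
  rw [← isoSpec_inv_Vmap] at h1
  exact (MorphismProperty.cancel_left_of_respectsIso @IsFinite _ _).mp h1

instance etale_Vmap : Etale (Vmap D) := by
  have h1 : Etale (Spec.map (CommRingCat.ofHom (alnV D))) :=
    (HasRingHomProperty.Spec_iff (P := @Etale)).mpr (finite_etale_alnV D).2
  rw [← isoSpec_inv_Vmap] at h1
  exact (MorphismProperty.cancel_left_of_respectsIso @Etale _ _).mp h1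

/-- The finite étale cover of the punctured line. -/
noncomputable def Vobj : FEt.Cat (Spec (CommRingCat.of (Aln D))) :=
  MorphismProperty.Over.mk ⊤ (Vmap D) ⟨isFinite_Vmap D, etale_Vmap D⟩

theorem Vobj_left : (Vobj D).left = (opn D : Scheme.{u}) := rfl

theorem Vobj_hom : (Vobj D).hom = Vmap D := rfl

theorem alnV_kA : (alnV D).comp (kA k (Aln D)) = strU k X (opn D) := by
  ext a
  exact (alnV_comp D (C a)).trans (polyV_C D a)

/-- The cover is a morphism over `k`. -/
theorem Vmap_comp : Vmap D ≫ Spec.map (CommRingCat.ofHom (kA k (Aln D))) =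
    (opn D).ι ≫ (X ↘ Spec (CommRingCat.of k)) := by
  rw [Vmap, Category.assoc, ← Spec.map_comp, ← CommRingCat.ofHom_comp, alnV_kA, ChartFin.toSpecΓ_strU]

theorem opn_le : opn D ≤ D.W0 := X.basicOpen_le _

section Integral

variable [IsIntegral X]

instance : Nonempty (opn D) := nonempty_opn D

theorem genericPoint_mem_opn : genericPoint X ∈ opn D := by
  obtain ⟨x⟩ := nonempty_opn D
  exact (genericPoint_specializes x.1).mem_open (opn D).isOpen x.2

omit [IsIntegral X] in
theorem t_ne_zero : D.t ≠ 0 := by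
  intro h
  have h1 : polyU k X D.W0 D.t Polynomial.X = 0 := by
    rw [polyU, Polynomial.coe_eval₂RingHom, Polynomial.eval₂_X, h]
  exact Polynomial.X_ne_zero (D.inj0 (h1.trans (map_zero _).symm))

theorem genericPoint_mem_Wi : genericPoint X ∈ D.Wi := by
  have h1 : (X.basicOpen D.t) ≠ ⊥ := by
    rw [Ne, basicOpen_eq_bot_iff]
    exact t_ne_zero D
  have h2 : Nonempty (X.basicOpen D.t) := by
    by_contra hcon
    refine h1 ?_
    rw [eq_bot_iff]
    intro x hx
    exact hcon ⟨⟨x, hx⟩⟩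
  obtain ⟨x⟩ := h2
  have h3 : x.1 ∈ D.W0 ⊓ D.Wi := by
    rw [← D.ht]
    exact x.2
  exact (genericPoint_specializes x.1).mem_open D.Wi.isOpen h3.2

instance : Nonempty (opn D ⊓ D.Wi : X.Opens) := ⟨⟨genericPoint X, genericPoint_mem_opn D, genericPoint_mem_Wi D⟩⟩

/-- `Γ(X, W₀)` is the integral closure of the line in `Γ(X, V)`. -/
theorem isIntegralClosure_W0 (hn : ∀ x : X, IsIntegrallyClosed (X.presheaf.stalk x))
    {R : Type v} [CommRing R] (φ : R →+* k[X]) (hφ : φ.IsIntegral)
    [Algebra R Γ(X, opn D)] [Algebra Γ(X, D.W0) Γ(X, opn D)]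
    (h1 : ∀ r : R, algebraMap R Γ(X, opn D) r = res (opn_le D) (polyU k X D.W0 D.t (φ r)))
    (h2 : ∀ a : Γ(X, D.W0), algebraMap Γ(X, D.W0) Γ(X, opn D) a = res (opn_le D) a) :
    IsIntegralClosure Γ(X, D.W0) R Γ(X, opn D) :=
  IntCl.isIntegralClosure (opn_le D) (fun x _ => hn x) ((polyU k X D.W0 D.t).comp φ)
    (RingHom.IsIntegral.trans _ _ hφ D.fin0.to_isIntegral) h1 h2

/-- `Γ(X, Wᵢ)` is the integral closure of the line at infinity in `Γ(X, V ∩ Wᵢ)`. -/
theorem isIntegralClosure_Wi (hn : ∀ x : X, IsIntegrallyClosed (X.presheaf.stalk x))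
    {R : Type v} [CommRing R] (φ : R →+* k[X]) (hφ : φ.IsIntegral)
    [Algebra R Γ(X, opn D ⊓ D.Wi)] [Algebra Γ(X, D.Wi) Γ(X, opn D ⊓ D.Wi)]
    (h1 : ∀ r : R, algebraMap R Γ(X, opn D ⊓ D.Wi) r = res inf_le_right (polyU k X D.Wi D.s (φ r)))
    (h2 : ∀ a : Γ(X, D.Wi), algebraMap Γ(X, D.Wi) Γ(X, opn D ⊓ D.Wi) a = res inf_le_right a) :
    IsIntegralClosure Γ(X, D.Wi) R Γ(X, opn D ⊓ D.Wi) :=
  IntCl.isIntegralClosure inf_le_right (fun x _ => hn x) ((polyU k X D.Wi D.s).comp φ)
    (RingHom.IsIntegral.trans _ _ hφ D.fini.to_isIntegral) h1 h2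

end Integral

theorem polyV_X : polyV D Polynomial.X = res (opn_le D) D.t := by
  change res (opn_le D) (Polynomial.eval₂RingHom (strU k X D.W0) D.t Polynomial.X) = _
  rw [Polynomial.coe_eval₂RingHom, Polynomial.eval₂_X]

theorem basicOpen_t : X.basicOpen (polyV D Polynomial.X) = opn D ⊓ D.Wi := by
  rw [polyV_X]
  refine (X.basicOpen_res D.t (homOfLE (opn_le D)).op).trans ?_
  rw [D.ht]
  refine le_antisymm (le_inf inf_le_left (inf_le_right.trans inf_le_right))
    (le_inf inf_le_left (le_inf (inf_le_left.trans (opn_le D)) inf_le_right))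

/-- `Γ(X, V ∩ Wᵢ)` is the localization of `Γ(X, V)` at `t`. -/
theorem isLocalization_t [Algebra Γ(X, opn D) Γ(X, opn D ⊓ D.Wi)]
    (h : ∀ a : Γ(X, opn D), algebraMap Γ(X, opn D) Γ(X, opn D ⊓ D.Wi) a = res inf_le_left a) :
    IsLocalization.Away (polyV D Polynomial.X) Γ(X, opn D ⊓ D.Wi) := by
  have key : ∀ (U : X.Opens) (hU : X.basicOpen (polyV D Polynomial.X) = U) (hle : U ≤ opn D)
      [Algebra Γ(X, opn D) Γ(X, U)] (_ : ∀ a : Γ(X, opn D), algebraMap Γ(X, opn D) Γ(X, U) a = res hle a),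
      IsLocalization.Away (polyV D Polynomial.X) Γ(X, U) := by
    rintro _ rfl hle i hi
    have h1 := (isAffineOpen_opn D).isLocalization_basicOpen (polyV D Polynomial.X)
    have h2 : i = Scheme.algebra_section_section_basicOpen (polyV D Polynomial.X) :=
      Algebra.algebra_ext _ _ hi
    rw [h2]
    exact h1
  exact key _ (basicOpen_t D) inf_le_left h

/-- The two coordinates are inverse to each other. -/
theorem res_t_mul_res_s : (res inf_le_left (polyV D Polynomial.X) : Γ(X, opn D ⊓ D.Wi)) * res inf_le_right D.s = 1 := by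
  have h1 := congrArg (X.presheaf.map (homOfLE (inf_le_inf_right D.Wi (opn_le D) :
    opn D ⊓ D.Wi ≤ D.W0 ⊓ D.Wi)).op).hom D.hts
  rw [map_mul, map_one] at h1
  rw [← h1, polyV_X]
  congr 1
  · rw [← RingHom.comp_apply, ← RingHom.comp_apply, ← CommRingCat.hom_comp, ← CommRingCat.hom_comp,
      ← Functor.map_comp, ← Functor.map_comp]
    rfl
  · rw [← RingHom.comp_apply, ← CommRingCat.hom_comp, ← Functor.map_comp]
    rfl

end Groth.Agent.Pi1.H389.VObj
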